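import Cfsg.Agent.H0.RHeA.D
import Cfsg.Agent.H0.TCHe6.Main
import Cfsg.Agent.H0.TCHe5.Main
set_option maxRecDepth 100000
namespace H0.RHeA
open H0 BN 
theorem rels : ∀ r ∈ B, ev R.p r = 1 := all_take_done (all_take_step (all_take_zero _ B) (rels_of_relsW R c0)) (by decide +kernel)
theorem defs_ok : DefsOK R.p defs 5 := defsOK_of_chk c1
variable {G : Type} [Group G] (P : Pres G 5 B)
noncomputable def m : Model G := P.model defs R rels (by decide +kernel) defs_ok R_ge
include P
theorem mR : (m P).R = R := rfl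
theorem g_eq {x : ℕ} (h : x < 5) : (m P).g x = P.g x := extG_out defs P.g 5 (Or.inl h)
theorem top : gen (m P).g (lets 5) = ⊤ := (gen_extG defs P.g 5 (by decide)).trans P.top
theorem grel : ∀ r ∈ B, ev (m P).g r = 1 := rels_extG defs 5 (by decide +kernel) P.rel
theorem hi : ∀ x < 5, (m P).g x * (m P).g (inv x) = 1 := inv_of_invChk (grel P) (by decide +kernel)
theorem upper : Finite G ∧ Nat.card G ≤ 15120 := card_of_top (top P) ((chain_step (σ := [[0], [1], [2], [3], [4]]) (n := 315) H0.TCHe5.main rfl rfl (rels_of_consChk (grel P) 5 inv (by decide +kernel)) (chain_step (σ := [[0], [1], [2], [4]]) (n := 48) H0.TCHe6.main rfl rfl (rels_of_consChk (grel P) 5 inv (by decide +kernel)) (chain_start _))).imp_right fun h => h.trans (by decide +kernel))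
theorem fin : Finite G := (upper P).1
theorem card_base : Nat.card G = 15120 ∧ (m P).pst [153, 0] = ⊥ :=
  haveI := fin P
  (m P).card_done ((m P).card_step (lo := 153) (d := 48) (Model.via _ (mR P) (fun R => Model.fixW R [0] [[7], [8], [9]]) c4) ((m P).inOrb_grow [0, 1, 2, 0, 1, 2, 1, 2] ((m P).inOrb_self _ 153) (Model.via _ (mR P) (fun R => Model.growW R [[7], [8], [9]] [0, 1, 2, 0, 1, 2, 1, 2] (Nat.pow 2 153) (ival 153 48)) c5)) (Model.via _ (mR P) (fun R => Nat.ble (153 + 48) R.N) (by decide +kernel)) ((m P).card_step (lo := 0) (d := 315) (Model.via _ (mR P) (fun R => Model.fixW R [] [[5], [6]]) c2) ((m P).inOrb_grow [1, 0, 1, 0, 1, 0, 1, 0, 1, 0, 1, 0, 1, 1, 0, 1, 1, 0] ((m P).inOrb_self _ 0) (Model.via _ (mR P) (fun R => Model.growW R [[5], [6]] [1, 0, 1, 0, 1, 0, 1, 0, 1, 0, 1, 0, 1, 1, 0, 1, 1, 0] (Nat.pow 2 0) (ival 0 315)) c3)) (Model.via _ (mR P) (fun R => Nat.ble (0 + 315) R.N) (by decide +kernel)) ((m P).card_start))) (upper P).2 (by decide +kernel)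
theorem card : Nat.card G = 15120 := (card_base P).1
theorem base : (m P).pst [153, 0] = ⊥ := (card_base P).2
theorem inj : Function.Injective (m P).φ := (m P).inj_of_base (base P)
theorem wrel : ∀ w ∈ W, ev P.g w = 1 := fun w hw =>
  (ev_extG defs P.g 5 (List.all_eq_true.1 (by decide +kernel : (W.all fun r => r.all (Nat.blt · 5)) = true) w hw)).symm.trans ((all_take_done (all_take_step (all_take_zero _ W) ((m P).ev_one (inj P) (Model.via _ (mR P) (fun R => relsW R 0 R.lg ((W.drop 0).take 1)) c6))) (by decide +kernel)) w hw)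
omit P in
theorem derived {K : Type} [Group K] (f : ℕ → K) (h : ∀ r ∈ B, ev f r = 1) : ∀ w ∈ W, ev f w = 1 :=
  (Pres.pg 5 B).transfer h (by decide +kernel) (by decide +kernel) (wrel _)
end H0.RHeA
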